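import Cfsg.Agent.NoDiv.Complement
import Cfsg.Agent.NoDiv.Bilinear
import Cfsg.Agent.FPFNilpotent.Main

/-!
# Uniqueness of the non-linear degree

* `degree_unique`: if non-linear degrees are pairwise incomparable, prime to `r` and fixed by an
  `r`-automorphism moving a `q`-element modulo `N'`, `N'` of order prime to `q`, they are equal.
-/

set_option autoImplicit false
set_option linter.style.haveILetI false
open Cfsg CfsgLib CfsgLib.Chars CfsgLib.Chars.Induced
open scoped commutatorElement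

noncomputable section

namespace CfsgLib.NoDiv

universe u

/-- In a nilpotent group a non-trivial normal subgroup strictly contains its commutator with the
group. -/
theorem commutator_top_ne {A : Type u} [Group A] [Group.IsNilpotent A] (D : Subgroup A)
    (hD : D ≠ ⊥) : ⁅D, (⊤ : Subgroup A)⁆ ≠ D := by
  intro h
  obtain ⟨n, hn⟩ := Subgroup.nilpotent_iff_lowerCentralSeries.1 ‹Group.IsNilpotent A›
  have : ∀ i, D ≤ Subgroup.lowerCentralSeries (⊤ : Subgroup A) i := by
    intro i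
    induction i with
    | zero => exact le_top
    | succ i ih =>
      calc D = ⁅D, (⊤ : Subgroup A)⁆ := h.symm
        _ ≤ ⁅Subgroup.lowerCentralSeries (⊤ : Subgroup A) i, (⊤ : Subgroup A)⁆ :=
          Subgroup.commutator_mono ih le_rfl
        _ = _ := rfl
  exact hD (eq_bot_iff.2 ((this n).trans hn.le))

variable {N : Type u} [Group N]

/-- The invariant linear characters of exponent `r` of a normal subgroup. -/
def invDual (L D : Subgroup N) [D.Normal] (r : ℕ) : Subgroup (D →* ℂˣ) where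
  carrier := {μ | (∀ l ∈ L, dualConj D l μ = μ) ∧ ∀ d, μ d ^ r = 1}
  one_mem' := ⟨fun l _ => map_one _, fun d => one_pow _⟩
  mul_mem' {a b} ha hb := ⟨fun l hl => by rw [map_mul, ha.1 l hl, hb.1 l hl],
    fun d => by rw [MonoidHom.mul_apply, mul_pow, ha.2 d, hb.2 d, one_mul]⟩
  inv_mem' {a} ha := ⟨fun l hl => by rw [map_inv, ha.1 l hl],
    fun d => by rw [MonoidHom.inv_apply, inv_pow, ha.2 d, inv_one]⟩

/-- Restriction of an automorphism to an invariant subgroup of a finite group. -/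
def restrictAut {Y : Type*} [CommGroup Y] [Finite Y] (β : MulAut Y) (B : Subgroup Y)
    (hB : ∀ y ∈ B, β y ∈ B) : MulAut B :=
  MulEquiv.ofBijective ((β.toMonoidHom.comp B.subtype).codRestrict B fun y => hB y y.2)
    (Finite.injective_iff_bijective.1 fun _ _ h => Subtype.ext (β.injective (congrArg Subtype.val h)))

theorem restrictAut_pow {Y : Type*} [CommGroup Y] [Finite Y] (β : MulAut Y) (B : Subgroup Y)
    (hB : ∀ y ∈ B, β y ∈ B) {m : ℕ} (hm : β ^ m = 1) : restrictAut β B hB ^ m = 1 := by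
  have key : ∀ (i : ℕ) (y : B), ((restrictAut β B hB ^ i) y : Y) = (β ^ i) (y : Y) := by
    intro i
    induction i with
    | zero => intro y; simp
    | succ i ih => intro y; rw [pow_succ, pow_succ, MulAut.mul_apply, MulAut.mul_apply, ih]; rfl
  exact MulEquiv.ext fun y => Subtype.ext (by rw [key, hm]; rfl)

theorem card_ne_one_add_one {Y : Type*} [Group Y] [Finite Y] :
    Nat.card {y : Y // y ≠ 1} + 1 = Nat.card Y := by
  classical
  haveI := Fintype.ofFinite Y
  simp only [Nat.card_eq_fintype_card]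
  rw [Fintype.card_subtype_compl, Fintype.card_subtype_eq]
  exact Nat.sub_add_cancel Fintype.card_pos

theorem card_fixed_add_one {Y : Type*} [Group Y] [Finite Y] (β : MulAut Y) :
    Nat.card {y : Y // y ≠ 1 ∧ β y = y} + 1 =
      Nat.card ((β.toMonoidHom).eqLocus (MonoidHom.id Y)) := by
  rw [← card_ne_one_add_one (Y := (β.toMonoidHom).eqLocus (MonoidHom.id Y))]
  congr 1
  exact Nat.card_congr
    { toFun := fun y => ⟨⟨y.1, y.2.2⟩, fun h => y.2.1 (congrArg Subtype.val h)⟩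
      invFun := fun y => ⟨y.1.1, fun h => y.2 (Subtype.ext h), y.1.2⟩
      left_inv := fun _ => rfl
      right_inv := fun _ => rfl }

/-- Two `r`-groups with automorphisms having the same ratio of fixed points have equal order. -/
theorem false_of_ratios {r : ℕ} [Fact r.Prime] {X Y : Type*} [Group X] [Finite X] [Group Y]
    [Finite Y] (β : MulAut X) (γ : MulAut Y) (hpX : IsPGroup r X) (hpY : IsPGroup r Y)
    (hlt : Nat.card Y < Nat.card X) {n f : ℕ} (hfn : f < n) (hf : 0 < f) (hY : 1 < Nat.card Y)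
    (hA : Nat.card {x : X // x ≠ 1 ∧ β x = x} * n = Nat.card {x : X // x ≠ 1} * f)
    (hB : Nat.card {x : Y // x ≠ 1 ∧ γ x = x} * n = Nat.card {x : Y // x ≠ 1} * f) : False := by
  obtain ⟨A, hcA⟩ := IsPGroup.iff_card.1 hpX
  obtain ⟨B, hcB⟩ := IsPGroup.iff_card.1 hpY
  obtain ⟨I, hcI⟩ := IsPGroup.iff_card.1 (hpX.to_subgroup ((β.toMonoidHom).eqLocus (MonoidHom.id X)))
  obtain ⟨J, hcJ⟩ := IsPGroup.iff_card.1 (hpY.to_subgroup ((γ.toMonoidHom).eqLocus (MonoidHom.id Y)))
  have e1 := (card_ne_one_add_one (Y := X)).trans hcA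
  have e2 := (card_fixed_add_one β).trans hcI
  have e3 := (card_ne_one_add_one (Y := Y)).trans hcB
  have e4 := (card_fixed_add_one γ).trans hcJ
  rw [hcA, hcB] at hlt
  rw [hcB] at hY
  generalize Nat.card {x : X // x ≠ 1} = X1 at e1 hA
  generalize Nat.card {x : X // x ≠ 1 ∧ β x = x} = X0 at e2 hA
  generalize Nat.card {x : Y // x ≠ 1} = Y1 at e3 hB
  generalize Nat.card {x : Y // x ≠ 1 ∧ γ x = x} = Y0 at e4 hB
  have hr := (Fact.out : r.Prime)
  have hJB : Y0 < Y1 := by nlinarith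
  have hJI : Y0 < X0 := by nlinarith
  refine not_ratio_eq hr.two_le ((Nat.pow_lt_pow_iff_right hr.one_lt).1 hlt)
    (j := J) ((Nat.pow_lt_pow_iff_right hr.one_lt).1 (by omega))
    (i := I) ((Nat.pow_lt_pow_iff_right hr.one_lt).1 (by omega)) ?_
  rw [← e1, ← e2, ← e3, ← e4]
  push_cast
  simp only [add_sub_cancel_right]
  have hA' : (X0 : ℤ) * n = X1 * f := by exact_mod_cast hA
  have hB' : (Y0 : ℤ) * n = Y1 * f := by exact_mod_cast hB
  have hn : (n : ℤ) ≠ 0 := by omega
  exact mul_right_cancel₀ hn (by linear_combination (X1 : ℤ) * hB' - (Y1 : ℤ) * hA')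

variable [Finite N]

set_option maxHeartbeats 1600000 in
/-- The non-linear degree is unique. -/
theorem degree_unique {q : ℕ} (hq : q.Prime) (hcop : (Nat.card (commutator N)).Coprime q)
    {r₀ a : ℕ} [Fact r₀.Prime] (hr₀q : r₀ ≠ q) (α : MulAut N) (hα : α ^ r₀ ^ a = 1)
    (hinv : ∀ χ : IrrCharacter N, (χ : N → ℂ) 1 ≠ 1 → ∀ n, (χ : N → ℂ) (α n) = (χ : N → ℂ) n)
    (hr₀ : ∀ χ : IrrCharacter N, (χ : N → ℂ) 1 ≠ 1 → ¬ r₀ ∣ charDegree (χ : N → ℂ))
    (hnd : ∀ χ χ' : IrrCharacter N, (χ : N → ℂ) 1 ≠ 1 → (χ' : N → ℂ) 1 ≠ 1 →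
      charDegree (χ : N → ℂ) ∣ charDegree (χ' : N → ℂ) →
        charDegree (χ : N → ℂ) = charDegree (χ' : N → ℂ))
    {y : N} (hyq : y ^ q = 1) (hy : α y * y⁻¹ ∉ commutator N) (χ χ' : IrrCharacter N)
    (hχ : (χ : N → ℂ) 1 ≠ 1) (hχ' : (χ' : N → ℂ) 1 ≠ 1) :
    charDegree (χ : N → ℂ) = charDegree (χ' : N → ℂ) := by
  classical
  haveI := Fact.mk hq
  haveI := Fintype.ofFinite N
  set L := commutator N with hL
  haveI := Fintype.ofFinite L
  have hNc : ∀ a b : N, a * b * a⁻¹ * b⁻¹ ∈ L := fun a b =>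
    Subgroup.commutator_mem_commutator (Subgroup.mem_top a) (Subgroup.mem_top b)
  have hvan : ∀ ψ : IrrCharacter N, (ψ : N → ℂ) 1 ≠ 1 → (ψ : N → ℂ) y = 0 := fun ψ hψ => by
    by_contra h
    exact hy (mem_commutator_of_apply_ne_zero α hinv ψ hψ h)
  obtain ⟨hdec, hdisj, hCc⟩ := exists_complement hq hcop hyq hvan
  set C := Subgroup.centralizer ({y} : Set N)
  have hy1 : y ≠ 1 := fun h => hy (by rw [h, map_one, one_mul, inv_one]; exact L.one_mem)
  have hcy : ∀ a : L, ManzComponents.cj L y⁻¹ a = a → a = 1 := by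
    intro a ha
    have h1 : y⁻¹ * (a : N) * y⁻¹⁻¹ = a := congrArg Subtype.val ha
    rw [inv_inv, mul_assoc, inv_mul_eq_iff_eq_mul] at h1
    exact Subtype.ext (hdisj _ (Subgroup.mem_centralizer_singleton_iff.2 h1) a.2)
  -- `N'` is nilpotent
  haveI hnil : Group.IsNilpotent L := by
    haveI : Nontrivial (Subgroup.zpowers y) := Subgroup.nontrivial_iff_ne_bot _ |>.2 fun h =>
      hy1 (Subgroup.mem_bot.1 (h ▸ Subgroup.mem_zpowers y))
    refine CfsgLib.FPFNilpotent.isNilpotent_of_fpf L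
      ((MulAut.conjNormal).comp (Subgroup.zpowers y).subtype) fun b hb l hl => ?_
    obtain ⟨i, hi⟩ := b.2
    have hord : orderOf y = q := orderOf_eq_prime hyq hy1
    have hgen : y ∈ Subgroup.zpowers (b : N) := by
      have hbe : Subgroup.zpowers (b : N) = Subgroup.zpowers y := by
        refine Subgroup.eq_of_le_of_card_ge (Subgroup.zpowers_le.2 b.2) ?_
        rw [Nat.card_zpowers, Nat.card_zpowers, hord]
        have h1 : orderOf (b : N) ∣ q := hord ▸ Nat.card_zpowers y ▸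
          Subgroup.orderOf_dvd_natCard _ b.2
        rcases (Nat.dvd_prime hq).1 h1 with h2 | h2
        · exact absurd (Subtype.ext (orderOf_eq_one_iff.1 h2)) hb
        · rw [h2]
      rw [hbe]; exact Subgroup.mem_zpowers y
    refine Subtype.ext (hdisj _ (Subgroup.mem_centralizer_singleton_iff.2 ?_) l.2)
    have hbl : (b : N) * l * (b : N)⁻¹ = l := congrArg Subtype.val hl
    obtain ⟨j, hj⟩ := hgen
    rw [← hj]
    exact ((Commute.zpow_left (mul_inv_eq_iff_eq_mul.1 hbl : Commute (b : N) (l : N)) j)).eq.symm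
  by_cases hLbot : L = ⊥
  · exact absurd (map_one_eq_one_of_commutator_eq_bot hLbot χ) hχ
  haveI : Nontrivial L := (Subgroup.nontrivial_iff_ne_bot L).2 hLbot
  have hLtop : commutator L ≠ ⊤ := fun h =>
    commutator_top_ne (⊤ : Subgroup L) top_ne_bot (by rwa [← commutator_def])
  -- linear characters of `N'`
  set φ := dualConj L with hφ
  have hmove : ∀ l : L →* ℂˣ, l ≠ 1 → y ∉ stab φ l := fun l hl h =>
    hl (hom_eq_one_of_fpf _ hcy l (fun a => DFunLike.congr_fun h a))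
  have hdeg : ∀ (l : L →* ℂˣ) (ψ : IrrCharacter N),
      mult (fun k : L => (ψ : N → ℂ) k) (linChar l) ≠ 0 →
        charDegree (ψ : N → ℂ) = (stab φ l).index := fun l ψ h =>
    charDegree_eq_index C hdec hCc l ψ h
  have hnl : ∀ l : L →* ℂˣ, l ≠ 1 → ∀ ψ : IrrCharacter N,
      mult (fun k : L => (ψ : N → ℂ) k) (linChar l) ≠ 0 → (ψ : N → ℂ) 1 ≠ 1 :=
    fun l hl ψ h h1 => hl (eq_one_of_linear_over le_rfl l ψ h1 h)
  have hdiv : ∀ l l' : L →* ℂˣ, l ≠ 1 → l' ≠ 1 → (stab φ l).index ∣ (stab φ l').index →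
      (stab φ l).index = (stab φ l').index := by
    intro l l' hl hl' hd
    obtain ⟨ψ, hψ⟩ := exists_over (linChar l)
    obtain ⟨ψ', hψ'⟩ := exists_over (linChar l')
    rw [← hdeg l ψ hψ, ← hdeg l' ψ' hψ'] at hd ⊢
    exact hnd ψ ψ' (hnl l hl ψ hψ) (hnl l' hl' ψ' hψ') hd
  obtain ⟨l₀, hl₀⟩ := exists_nontrivial_linChar hLtop
  set S := stab φ l₀ with hS
  have hstab : ∀ l : L →* ℂˣ, l ≠ 1 → stab φ l = S := fun l hl =>
    stab_eq_of_antichain φ (fun a b l => dualConj_comm hNc a b l) hdiv hl hl₀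
  have hLS : L ≤ S := fun n hn => dualConj_eq_self_of_mem hn l₀
  haveI : S.Normal := ⟨fun s hs g => by
    have h1 : g * s * g⁻¹ * s⁻¹ ∈ S := hLS (hNc g s)
    simpa using S.mul_mem h1 hs⟩
  set D := ⁅L, L⁆ with hD
  by_cases hDbot : D = ⊥
  · -- abelian: every non-linear degree is `|N : S|`
    suffices hone : ∀ ψ : IrrCharacter N, (ψ : N → ℂ) 1 ≠ 1 → charDegree (ψ : N → ℂ) = S.index by
      rw [hone χ hχ, hone χ' hχ']
    intro ψ hψ
    obtain ⟨η, hη⟩ := exists_mult_restrict_ne_zero (N := L) ψ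
    have hLcomm : commutator L = ⊥ := by
      have h1 := Subgroup.map_subtype_commutator L
      rw [← hD, hDbot, Subgroup.map_eq_bot_iff, Subgroup.ker_subtype, le_bot_iff] at h1
      exact h1
    obtain ⟨l, rfl⟩ := exists_linChar_eq η (map_one_eq_one_of_commutator_eq_bot hLcomm η)
    rw [hdeg l ψ hη, hstab l ?_]
    rintro rfl
    refine hψ ((commutator_le_charKer_iff ψ).1 fun k hk => ?_)
    rw [mem_charKer_iff (isCharacter_coe ψ)]
    have h2 := congrFun (clifford ψ _ hη) ⟨k, hk⟩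
    have h3 := congrFun (clifford ψ _ hη) 1
    simp only [Pi.smul_apply, Finset.sum_apply, OneMemClass.coe_one] at h2 h3
    rw [h2, h3]
    congr 1
    refine Finset.sum_congr rfl fun η' hη' => ?_
    obtain ⟨x, rfl⟩ := (Set.Finite.mem_toFinset _).1 hη'
    simp [conjIrr_coe, conjFun_apply]
  exfalso
  have hαL : ∀ x ∈ L, α x ∈ L := fun x hx => apply_mem_commutator α hx
  have hαiL : ∀ x ∈ L, α⁻¹ x ∈ L := fun x hx => apply_mem_commutator α⁻¹ hx
  have hαD : ∀ x ∈ D, α x ∈ D := fun x hx => apply_mem_commutator_sq α hx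
  have hαiD : ∀ x ∈ D, α⁻¹ x ∈ D := fun x hx => apply_mem_commutator_sq α⁻¹ hx
  set β := dualAut α L hαL hαiL with hβ
  -- fixed points on `L / D`
  have hmemD : ∀ k : L, k ∈ commutator L → (k : N) ∈ D := fun k hk => by
    rw [hD, ← Subgroup.map_subtype_commutator]; exact Subgroup.mem_map_of_mem _ hk
  have hfpf : ∀ h : N, h ∉ S → ∀ v ∈ L, h * v * h⁻¹ * v⁻¹ ∈ D → v ∈ D := by
    intro h hhS v hv hfix
    by_contra hvD
    have hv' : (⟨v, hv⟩ : L) ∉ commutator L := fun hm => hvD (hmemD _ hm)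
    obtain ⟨l, hl, hlfix⟩ := exists_fixed_hom (ManzComponents.cj L h) hv' (by
      rw [hD, ← Subgroup.map_subtype_commutator] at hfix
      obtain ⟨u, hu, he⟩ := hfix
      have he' : u = ManzComponents.cj L h ⟨v, hv⟩ * (⟨v, hv⟩ : L)⁻¹ := Subtype.ext he
      rw [he'] at hu
      have := (inferInstance : (commutator L).Normal).conj_mem _ hu (⟨v, hv⟩ : L)⁻¹
      simpa [mul_assoc] using this)
    have : h⁻¹ ∈ stab φ l := by
      rw [mem_stab]
      exact MonoidHom.ext fun a => (congrArg l (Subtype.ext (by simp [ManzComponents.cj]))).trans (hlfix a)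
    rw [hstab l hl, inv_mem_iff] at this
    exact hhS this
  have hStriv : ∀ s ∈ S, ∀ v ∈ L, s * v * s⁻¹ * v⁻¹ ∈ D := by
    intro s hs v hv
    refine hmemD (ManzComponents.cj L s ⟨v, hv⟩ * (⟨v, hv⟩ : L)⁻¹) (mem_commutator_iff.2 fun η hη => ?_)
    obtain ⟨l, rfl⟩ := exists_linChar_eq η hη
    have hfixl : dualConj L s⁻¹ l = l := by
      rcases eq_or_ne l 1 with rfl | hl
      · exact map_one _
      · have := S.inv_mem hs
        rw [← hstab l hl] at this
        exact this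
    rw [linChar_apply, map_mul, map_inv, hom_cj l hfixl, mul_inv_cancel, Units.val_one]
  have hαS : ∀ s ∈ S, α s ∈ S := by
    intro s hs
    have h1 := dualAut_compat α L hαL hαiL s l₀
    rw [show dualConj L s l₀ = l₀ from hs] at h1
    have h2 : β l₀ ≠ 1 := fun h => hl₀ (β.injective (h.trans (map_one β).symm))
    rw [← hstab _ h2]
    exact h1.symm
  obtain ⟨v₀, hv₀⟩ : ∃ v : L, (v : N) ∉ D := by
    by_contra hne
    push Not at hne
    refine hLtop (eq_top_iff.2 fun v _ => ?_)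
    have := hne v
    rw [hD, ← Subgroup.map_subtype_commutator] at this
    obtain ⟨u, hu, he⟩ := this
    rwa [show u = v from Subtype.ext he] at hu
  have hSZ : ∀ s ∈ S, α s * s⁻¹ ∈ L := fun s hs =>
    mem_commutator_of_fixed α hinv C hdec hdisj hCc D L (Subgroup.commutator_le_right _ _) le_rfl
      (fun l hl u hu => Subgroup.commutator_mem_commutator hl hu) v₀.2 hv₀ (hStriv s hs v₀ v₀.2)
  -- the section `D / γ`
  set γ := ⁅D, L⁆ with hγ
  have hγD : γ ≤ D := Subgroup.commutator_le_left _ _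
  have hDL : D ≤ L := Subgroup.commutator_le_right _ _
  have hγne : ¬ D ≤ γ := by
    intro hle
    refine commutator_top_ne (D.subgroupOf L) ?_ ?_
    · rw [Ne, Subgroup.subgroupOf_eq_bot, disjoint_iff]
      rwa [inf_eq_left.2 hDL]
    · refine Subgroup.map_injective L.subtype_injective ?_
      rw [Subgroup.map_commutator, Subgroup.subgroupOf_map_subtype, ← MonoidHom.range_eq_map,
        Subgroup.range_subtype, inf_eq_left.2 hDL]
      exact le_antisymm hγD hle
  haveI := Fintype.ofFinite D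
  obtain ⟨d₀, hd₀D, hd₀⟩ := SetLike.not_le_iff_exists.1 hγne
  have hcD : commutator D ≤ γ.subgroupOf D := by
    rw [commutator_def, Subgroup.commutator_le]
    intro a _ b _
    exact Subgroup.mem_subgroupOf.2 (Subgroup.commutator_mem_commutator a.2 (hDL b.2))
  obtain ⟨μ₁, hμ₁k, hμ₁⟩ : ∃ μ : D →* ℂˣ, (∀ d : D, (d : N) ∈ γ → μ d = 1) ∧ μ ⟨d₀, hd₀D⟩ ≠ 1 := by
    set E := γ.subgroupOf D with hE
    have hcE : commutator (D ⧸ E) = ⊥ := by
      have h := Subgroup.map_commutator (⊤ : Subgroup D) ⊤ (QuotientGroup.mk' E)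
      rw [Subgroup.map_top_of_surjective _ (QuotientGroup.mk'_surjective E), ← commutator_def,
        ← commutator_def] at h
      rw [← h, Subgroup.map_eq_bot_iff, QuotientGroup.ker_mk']
      exact hcD
    have hne : ((⟨d₀, hd₀D⟩ : D) : D ⧸ E) ∉ commutator (D ⧸ E) := by
      rw [hcE, Subgroup.mem_bot, QuotientGroup.eq_one_iff]
      exact hd₀
    obtain ⟨l, hl⟩ := exists_linChar_ne_one hne
    exact ⟨l.comp (QuotientGroup.mk' E), fun d hd => by
      rw [MonoidHom.comp_apply, QuotientGroup.mk'_apply, (QuotientGroup.eq_one_iff d).2 hd, map_one], hl⟩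
  have hμ₁ne : μ₁ ≠ 1 := fun h => hμ₁ (by rw [h]; rfl)
  set o := orderOf μ₁ with ho
  obtain ⟨r, hr, hro⟩ := Nat.exists_prime_and_dvd (n := o) fun h => hμ₁ne (orderOf_eq_one_iff.1 h)
  haveI := Fact.mk hr
  set μ₀ := μ₁ ^ (o / r) with hμ₀
  have hμ₀ord : orderOf μ₀ = r := orderOf_pow_orderOf_div (orderOf_pos μ₁).ne' hro
  have hμ₁inv : ∀ l ∈ L, dualConj D l μ₁ = μ₁ := by
    intro l hl
    refine MonoidHom.ext fun d => ?_
    rw [dualConj_apply]
    have h1 : (((ManzComponents.cj D l⁻¹ d) * d⁻¹ : D) : N) ∈ γ := by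
      have := Subgroup.commutator_mem_commutator (L.inv_mem hl) d.2
      rw [Subgroup.commutator_comm] at this
      simpa [ManzComponents.cj, commutatorElement_def] using this
    have h2 := hμ₁k _ h1
    rwa [map_mul, map_inv, mul_inv_eq_one] at h2
  set Y := invDual L D r with hY
  have hμ₀Y : μ₀ ∈ Y := ⟨fun l hl => MonoidHom.ext fun d => by
      rw [dualConj_apply, hμ₀, MonoidHom.pow_apply, MonoidHom.pow_apply]
      exact congrArg (· ^ (o / r)) (DFunLike.congr_fun (hμ₁inv l hl) d),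
    fun d => by
      have h1 : μ₀ ^ r = 1 := by rw [← hμ₀ord]; exact pow_orderOf_eq_one μ₀
      exact (MonoidHom.pow_apply μ₀ r d).symm.trans (DFunLike.congr_fun h1 d)⟩
  have hγker : ∀ μ ∈ Y, ∀ d : D, (d : N) ∈ γ → μ d = 1 := by
    intro μ hμ d hd
    have key : γ ≤ μ.ker.map D.subtype := by
      rw [hγ, Subgroup.commutator_le]
      intro e he l hl
      refine ⟨⟨e, he⟩ * (ManzComponents.cj D l ⟨e, he⟩)⁻¹, ?_, ?_⟩
      · rw [SetLike.mem_coe, MonoidHom.mem_ker, map_mul, map_inv, hom_cj μ (hμ.1 _ (L.inv_mem hl)),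
          mul_inv_cancel]
      · simp [ManzComponents.cj, commutatorElement_def]; group
    obtain ⟨d', hd', he⟩ := key hd
    rw [show d' = d from Subtype.ext he] at hd'
    exact hd'
  -- non-degeneracy
  have hlam : ∀ η : IrrCharacter L, (η : L → ℂ) 1 ≠ 1 → ∃ h : N, h ∉ S ∧ h ∈ inertia L (η : L → ℂ) := by
    intro η hη
    by_contra hne
    push Not at hne
    have hle : inertia L (η : L → ℂ) ≤ S := fun h hh => by_contra fun hS => hne h hS hh
    obtain ⟨ψ, hψ⟩ := exists_over η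
    obtain ⟨ψ₀, hψ₀⟩ := exists_over (linChar l₀)
    have hd : S.index * charDegree (η : L → ℂ) ∣ charDegree (ψ : N → ℂ) :=
      (Nat.mul_dvd_mul_right (Subgroup.index_dvd_of_le hle) _).trans (index_mul_dvd η ψ hψ)
    have hη2 : 2 ≤ charDegree (η : L → ℂ) := by
      have := charDegree_pos η
      have : charDegree (η : L → ℂ) ≠ 1 := fun h => hη ((charDegree_eq_one_iff η).1 h)
      omega
    have hS0 : S.index ≠ 0 := Subgroup.index_ne_zero_of_finite
    have hψnl : (ψ : N → ℂ) 1 ≠ 1 := fun h => by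
      have h1 := Nat.le_of_dvd (charDegree_pos ψ) hd
      rw [(charDegree_eq_one_iff ψ).2 h] at h1
      nlinarith [Nat.pos_of_ne_zero hS0]
    have heq := hnd ψ₀ ψ (hnl l₀ hl₀ ψ₀ hψ₀) hψnl
      (by rw [hdeg l₀ ψ₀ hψ₀]; exact (dvd_mul_right _ _).trans hd)
    rw [hdeg l₀ ψ₀ hψ₀] at heq
    have h1 := Nat.le_of_dvd (charDegree_pos ψ) hd
    rw [← heq] at h1
    nlinarith [Nat.pos_of_ne_zero hS0]
  have hnondeg : ∀ (μ : D →* ℂˣ) (hμ : μ ∈ Y), μ ≠ 1 → ∀ v : L, bform μ hμ.1 v = 1 → (v : N) ∈ D :=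
    fun μ hμ hμ1 v hv => mem_of_ker S hNc hfpf hlam μ hμ.1 hμ1 v hv
  -- exponents
  have hpowX : ∀ l : L →* ℂˣ, l ^ r = 1 := by
    intro l
    refine MonoidHom.ext fun v => ?_
    have h1 : bform μ₀ hμ₀Y.1 (v ^ r) = 1 := by
      refine MonoidHom.ext fun w => ?_
      rw [map_pow, MonoidHom.pow_apply, bform_apply, MonoidHom.one_apply, hμ₀Y.2]
    have h2 := hnondeg μ₀ hμ₀Y (fun h => hr.ne_one (by rw [← hμ₀ord, h, orderOf_one])) _ h1
    rw [hD, ← Subgroup.map_subtype_commutator] at h2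
    obtain ⟨u, hu, he⟩ := h2
    rw [show u = v ^ r from Subtype.ext he] at hu
    rw [MonoidHom.pow_apply, ← map_pow, MonoidHom.one_apply]
    exact Abelianization.commutator_subset_ker l hu
  -- `|Y| < |Dual L|`
  have hlt : Nat.card Y < Nat.card (L →* ℂˣ) := by
    let E : Y →* (L →* ℂˣ) :=
      { toFun := fun μ => bform μ.1 μ.2.1 v₀
        map_one' := MonoidHom.ext fun w => rfl
        map_mul' := fun μ μ' => MonoidHom.ext fun w => rfl }
    have hEinj : Function.Injective E := by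
      rw [injective_iff_map_eq_one]
      intro μ hμ
      by_contra hne
      exact hv₀ (hnondeg μ.1 μ.2 (fun h => hne (Subtype.ext h)) v₀ hμ)
    refine (Nat.card_le_card_of_injective E hEinj).lt_of_ne fun hc => ?_
    have hs := ((Nat.bijective_iff_injective_and_card E).2 ⟨hEinj, hc⟩).2
    obtain ⟨l, hl⟩ : ∃ l : L →* ℂˣ, l v₀ ≠ 1 := exists_linChar_ne_one fun h => hv₀ (hmemD _ h)
    obtain ⟨μ, rfl⟩ := hs l
    refine hl ?_
    show μ.1 (cm v₀ v₀) = 1
    rw [show cm v₀ v₀ = 1 from Subtype.ext (by simp [cm, commutatorElement_def]), map_one]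
  -- the fixed point subgroup modulo `S`
  let F : Subgroup N := ((QuotientGroup.mk' S).comp α.toMonoidHom).eqLocus (QuotientGroup.mk' S)
  have hFmem : ∀ h, h ∈ F ↔ (α h)⁻¹ * h ∈ S := fun h => QuotientGroup.eq
  have hcopS : (r₀ ^ a).Coprime S.index := by
    refine Nat.Coprime.pow_left a ((Fact.out : r₀.Prime).coprime_iff_not_dvd.2 ?_)
    obtain ⟨ψ, hψ⟩ := exists_over (linChar l₀)
    rw [hS, ← hdeg l₀ ψ hψ]
    exact hr₀ ψ (hnl l₀ hl₀ ψ hψ)
  have hyF : y ∉ F := by
    intro h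
    rw [hFmem] at h
    have h0 : y⁻¹ * α y ∈ S := by
      have := S.inv_mem h
      rwa [mul_inv_rev, inv_inv] at this
    have h2 : (y⁻¹ * α y) ^ q ∈ L := by
      rw [← QuotientGroup.eq_one_iff, QuotientGroup.mk_pow, QuotientGroup.mk_mul, QuotientGroup.mk_inv,
        Commute.mul_pow (show Commute ((y : N ⧸ L))⁻¹ (α y : N ⧸ L) from
          (show Commute (y : N ⧸ L) (α y : N ⧸ L) from by
            rw [Commute, SemiconjBy, ← QuotientGroup.mk_mul, ← QuotientGroup.mk_mul,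
              QuotientGroup.eq_iff_div_mem, div_eq_mul_inv, mul_inv_rev]
            have := hNc y (α y)
            rwa [← mul_assoc]).inv_left),
        inv_pow, ← QuotientGroup.mk_pow, ← QuotientGroup.mk_pow, hyq, ← map_pow, hyq, map_one,
        QuotientGroup.mk_one, inv_one, mul_one]
    have h4 := mem_of_fix α L hαL hα ((Nat.coprime_primes (Fact.out : r₀.Prime) hq).2 hr₀q |>.pow_left a)
      y (hSZ _ h0) h2
    have := (inferInstance : L.Normal).conj_mem _ h4 y
    rw [mul_inv_cancel_left] at this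
    exact hy this
  -- counting on both sides
  have horbX : ∀ l : L →* ℂˣ, l ≠ 1 → ∃ n, β l = φ n l := by
    intro l hl
    obtain ⟨ψ, hψ⟩ := exists_over (linChar l)
    exact exists_dualAut_eq α hαL hαiL l ψ hψ (hinv ψ (hnl l hl ψ hψ))
  have hidxX : ∀ l : L →* ℂˣ, l ≠ 1 → ¬ r₀ ∣ (stab φ l).index := by
    intro l hl
    obtain ⟨ψ, hψ⟩ := exists_over (linChar l)
    rw [← hdeg l ψ hψ]
    exact hr₀ ψ (hnl l hl ψ hψ)
  have hA := card_fixed_mul φ α β (fun n l => dualAut_compat α L hαL hαiL n l)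
    (dualAut_pow α L hαL hαiL hα) horbX hidxX F
    (fun l hl _ h => by rw [hstab l hl, hFmem])
  have hYφ : ∀ n, ∀ μ ∈ Y, dualConj D n μ ∈ Y := fun n μ hμ =>
    ⟨fun l hl => by
      obtain ⟨w, hw, he⟩ := exists_mul_swap L hNc l n
      rw [← MulAut.mul_apply, ← map_mul, he, map_mul, MulAut.mul_apply, map_mul, MulAut.mul_apply,
        hμ.1 l hl]
      rw [show dualConj D w (dualConj D n μ) = dualConj D n (dualConj D (n⁻¹ * w * n) μ) by
        rw [← MulAut.mul_apply, ← map_mul, ← MulAut.mul_apply, ← map_mul]; congr 2; group]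
      rw [hμ.1 _ (by
        have := (inferInstance : L.Normal).conj_mem _ hw n⁻¹
        rwa [inv_inv] at this)],
    fun d => hμ.2 _⟩
  set βD := dualAut α D hαD hαiD with hβD
  have hYβ : ∀ μ ∈ Y, βD μ ∈ Y := fun μ hμ =>
    ⟨fun l hl => by
      have := dualAut_compat α D hαD hαiD (α⁻¹ l) μ
      rw [hμ.1 _ (hαiL l hl), MulAut.apply_inv_self] at this
      exact this.symm,
    fun d => hμ.2 _⟩
  set φY := restrictAct (dualConj D) Y hYφ with hφY
  set βY := restrictAut βD Y hYβ with hβY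
  have hnlY : ∀ μ : Y, μ ≠ 1 → ∀ ψ : IrrCharacter N,
      mult (fun k : D => (ψ : N → ℂ) k) (linChar μ.1) ≠ 0 → (ψ : N → ℂ) 1 ≠ 1 :=
    fun μ hμ ψ h h1 => hμ (Subtype.ext (eq_one_of_linear_over hDL μ.1 ψ h1 h))
  have hidxY : ∀ μ : Y, μ ≠ 1 → ¬ r₀ ∣ (stab φY μ).index := by
    intro μ hμ hd
    obtain ⟨ψ, hψ⟩ := exists_over (linChar μ.1)
    refine hr₀ ψ (hnlY μ hμ ψ hψ) (hd.trans ?_)
    rw [hφY, stab_restrictAct, ← inertia_linChar]
    exact (dvd_mul_right _ _).trans (index_mul_dvd (linChar μ.1) ψ hψ)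
  have horbY : ∀ μ : Y, μ ≠ 1 → ∃ n, βY μ = φY n μ := by
    intro μ hμ
    obtain ⟨ψ, hψ⟩ := exists_over (linChar μ.1)
    obtain ⟨n, hn⟩ := exists_dualAut_eq α hαD hαiD μ.1 ψ hψ (hinv ψ (hnlY μ hμ ψ hψ))
    exact ⟨n, Subtype.ext hn⟩
  have hFY : ∀ μ : Y, μ ≠ 1 → βY μ = μ → ∀ h, (α h)⁻¹ * h ∈ stab φY μ ↔ h ∈ F := by
    intro μ hμ _ h
    rw [hFmem, hφY, stab_restrictAct]
    constructor
    · intro ht
      set t := (α h)⁻¹ * h with htdef
      obtain ⟨d, hdγ, hdfix⟩ : ∃ d : D, (d : N) ∉ γ ∧ t * d * t⁻¹ * (d : N)⁻¹ ∈ γ := by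
        by_contra hne
        push Not at hne
        let E := γ.subgroupOf D
        let f := ManzComponents.cj D t
        have hfE : E ≤ E.comap f := fun z hz => (inferInstance : γ.Normal).conj_mem _ hz t
        have hle : E ≤ (μ : D →* ℂˣ).ker := fun z hz => hγker μ μ.2 z hz
        have h1 := hom_eq_one_of_fpf (QuotientGroup.map E E f hfE) (fun x hx => by
          obtain ⟨z, rfl⟩ := QuotientGroup.mk_surjective x
          rw [QuotientGroup.map_mk, QuotientGroup.eq_iff_div_mem, div_eq_mul_inv] at hx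
          rw [QuotientGroup.eq_one_iff]
          by_contra hz
          exact hne z hz hx)
          (QuotientGroup.lift E μ hle) (fun x => by
            obtain ⟨z, rfl⟩ := QuotientGroup.mk_surjective x
            exact hom_cj (μ : D →* ℂˣ) (Subgroup.inv_mem _ ht) z)
        exact hμ (Subtype.ext (MonoidHom.ext fun z => DFunLike.congr_fun h1 (z : D ⧸ E)))
      have h3 := mem_commutator_of_fixed α hinv C hdec hdisj hCc γ D (hγD.trans hDL) hDL
        (fun l hl u hu => by
          rw [hγ, Subgroup.commutator_comm]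
          exact Subgroup.commutator_mem_commutator hl hu) d.2 hdγ hdfix
      have h4 : α (h⁻¹ * α h) * (h⁻¹ * α h)⁻¹ ∈ S := by
        rw [show h⁻¹ * α h = t⁻¹ by rw [htdef, mul_inv_rev, inv_inv], map_inv, inv_inv]
        refine hLS ?_
        have := (inferInstance : L.Normal).conj_mem _ (L.inv_mem h3) (α t)⁻¹
        rwa [show (α t)⁻¹ * (α t * t⁻¹)⁻¹ * (α t)⁻¹⁻¹ = (α t)⁻¹ * t by group] at this
      have h5 := mem_of_fix α S hαS hα hcopS h h4 (S.pow_index_mem _)
      have := S.inv_mem h5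
      rwa [mul_inv_rev, inv_inv] at this
    · intro ht
      have := dualConj_eq_of_trivial (μ : D →* ℂˣ) μ.2.1 (hStriv _ (S.inv_mem ht))
      rwa [inv_inv] at this
  have hB := card_fixed_mul φY α βY (fun n μ => Subtype.ext (dualAut_compat α D hαD hαiD n μ.1))
    (restrictAut_pow βD Y hYβ (dualAut_pow α D hαD hαiD hα)) horbY hidxY F hFY
  -- arithmetic
  have hFlt : Nat.card F < Nat.card N := by
    have hle := F.card_le_card_group
    refine hle.lt_of_ne fun hc => hyF ?_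
    rw [Subgroup.eq_top_of_card_eq F hc]
    exact Subgroup.mem_top y
  refine false_of_ratios (r := r) (X := L →* ℂˣ) (Y := Y) β βY (fun l => ⟨1, by rw [pow_one]; exact hpowX l⟩)
    (fun μ => ⟨1, by
      rw [pow_one]
      exact Subtype.ext (MonoidHom.ext fun d => (MonoidHom.pow_apply μ.1 r d).trans (μ.2.2 d))⟩)
    hlt hFlt Nat.card_pos ?_ hA hB
  exact Finite.one_lt_card_iff_nontrivial.2 ⟨⟨⟨μ₀, hμ₀Y⟩, 1, fun h => hr.ne_one (by
    rw [← hμ₀ord, show μ₀ = 1 from congrArg Subtype.val h, orderOf_one])⟩⟩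

end CfsgLib.NoDiv
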